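import Cfsg.Agent.H478.RadTools_m3
import Cfsg.Agent.KFacts.Baby.RowB_m3
import Cfsg.Agent.BabyM.Fi23B
import Cfsg.Agent.S1697
import Cfsg.Agent.BpSpor.Row.B
import Cfsg.Agent.H844.NB.FiFour
import Cfsg.Agent.PreUniq.Fi24S
import Cfsg.Agent.LThreeFi24.EmptyDat
import Cfsg.Agent.H256.SporC
import Cfsg.Agent.FastGrp
import Cfsg.Agent.Prune
set_option linter.all false

section
prune_inst 0x7f00000000000000000000000000000000000000000000000000000000000000000000000000000000000000000000000000000000000000000000000000000000000000000000000000000000000000003fffffffffffffffffffffffffffbeffbdffffffff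

-- part: H491/Rad3/B
section
set_option linter.all false
open scoped Cfsg.Agent.FastGrp

/-!
# The Baby Monster, elements of order three (helper491, for S3854, S3832, S4336)
-/

set_option autoImplicit false

namespace Cfsg.Agent.H491.Rad3

open Subgroup Cfsg Cfsg.Agent.H959.Rad3 Cfsg.Agent.H459.Rad Cfsg.Agent.H839.Rad

/-- a simple group whose order is divisible by two primes is not solvable -/
theorem not_solvable {S : Type*} [Group S] [Finite S] [IsSimpleGroup S] {p q : ℕ} (hp : p.Prime) (hq : q.Prime)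
    (hpq : p ≠ q) (h1 : p ∣ Nat.card S) (h2 : q ∣ Nat.card S) : ¬ Group.IsSolvable S := by
  intro hs
  have hc := IsSimpleGroup.comm_iff_isSolvable.2 hs
  let _ : CommGroup S := { mul_comm := hc }
  have h3 : (Nat.card S).Prime := IsSimpleGroup.prime_card
  exact hpq (((Nat.prime_dvd_prime_iff_eq hp h3).1 h1).trans ((Nat.prime_dvd_prime_iff_eq hq h3).1 h2).symm)

/-- a simple subgroup of index prime to `3` -/
theorem irow_of_sylow {K : Type*} [Group K] [Finite K] [IsSimpleGroup K] (hna : ¬ IsMulCommutative K)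
    (hin : ∀ x : MulAut K, orderOf x = 3 → ∃ a : K, x = MulAut.conj a) {M : Subgroup K} (hM : M ≠ ⊤)
    (hi : ¬ 3 ∣ M.index) (hR : RadFree 3 M) : IRow K := by
  have hZ : center K = ⊥ := by
    rcases (inferInstance : (center K).Normal).eq_bot_or_eq_top with h | h
    · exact h
    · exact absurd ⟨⟨fun a b => ((mem_center_iff.1 (by rw [h]; exact mem_top b)) a)⟩⟩ hna
  refine IRowInn.irow hZ hin ?_
  intro a ha hR' _
  exact false_of_sylow Nat.prime_three ha hR' hM hi hR

theorem irow_b {K : Type*} [Group K] [Finite K] [IsSimpleGroup K] (h : Cfsg.Spor.IsoB K) :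
    Cfsg.Agent.H959.Rad3.IRow K := by
  obtain ⟨e⟩ := Cfsg.Agent.KFacts.Baby.RowB.exists_iso h
  have hfin : Finite Cfsg.Agent.BabyM.Inst.M.G := Cfsg.Agent.BabyM.Instance.all.finite_G
  refine IRow.congr e.symm ?_
  have hs := Cfsg.Agent.BabyM.Instance.isB.1
  obtain ⟨M, hM⟩ := Cfsg.Agent.BabyM.Fi23B.main Cfsg.Agent.BabyM.Instance.all Cfsg.Agent.BabyM.Instance.ok
    Cfsg.Agent.S1697.result
  have hB : Nat.card Cfsg.Agent.BabyM.Inst.M.G = 4154781481226426191177580544000000 :=
    Cfsg.Agent.BabyM.Instance.isB.2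
  have hcM : Nat.card M = 4089470473293004800 := hM.2
  have hidx : M.index = 1015970529280000 := by
    have h1 := M.card_mul_index
    rw [hcM, hB] at h1
    omega
  have hsM : IsSimpleGroup M := hM.1
  have h2 : 2 ∣ Nat.card M := by rw [hcM]; exact ⟨2044735236646502400, by norm_num⟩
  have h3 : 3 ∣ Nat.card M := by rw [hcM]; exact ⟨1363156824431001600, by norm_num⟩
  have hI : Cfsg.Spor.IsoB Cfsg.Agent.BabyM.Inst.M.G := by
    obtain ⟨f⟩ := h
    exact ⟨e.trans f⟩
  have hns := not_solvable Nat.prime_two Nat.prime_three (by norm_num) h2 h3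
  refine irow_of_sylow (M := M) ?_ (Cfsg.Agent.BpSpor.Inn.b hI 3 Nat.prime_three (by norm_num)) ?_
    (by rw [hidx]; norm_num) (RadFree.of_simple (by norm_num) hns)
  · intro hc
    apply hns
    exact Group.isSolvable_of_comm fun a b => Subtype.ext (hc.is_comm.comm _ _)
  · intro h1
    rw [h1, index_top] at hidx
    norm_num at hidx

end Cfsg.Agent.H491.Rad3
end

-- part: H491/Rad3/FiTF
section
set_option linter.all false
open scoped Cfsg.Agent.FastGrp

/-!
# `Fi24'`, elements of order three (helper491, for S3854, S3832, S4336)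

* `fix_of_cube` : an element of order 3 fixing the tetrads of `z` fixes a transposition;
* `fixes_of_rc` : a radical element of order 3 commuting with `z` fixes the tetrads of `z`.
-/

set_option autoImplicit false

namespace Cfsg.Agent.H491.Rad3.FiTF

open Subgroup Cfsg Cfsg.Spor Cfsg.Agent.H959.Rad3 Cfsg.Agent.H459.Rad Cfsg.Agent.H839.Rad
open Cfsg.Agent.KFacts.FiTF Cfsg.Agent.KFacts.FiTF.Defs Cfsg.Agent.SignalizersComponents.ComponentExists
open Cfsg.Agent.R08.FiTwentyFour (L finite_Fi24)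
open Cfsg.Agent.R08.TetTwo (IsTet Mate)
open Cfsg.Agent.KFacts.FiTF.QuasiA (Fixes)

/-- an element of order 3 fixing the tetrads of `z` fixes a transposition -/
theorem fix_of_cube {a : Fi24} (ha : a ^ 3 = 1) (haz : a * z = z * a) (hf : Fixes a) :
    ∃ e ∈ L, a * e * a⁻¹ = e := by
  have hTr := Cfsg.Agent.R08.TetFi24C.facts.tr
  have h0 := Order.hT
  have hD : D 0 0 ∈ Dz := ⟨h0.ha, h0.comm_a.eq⟩
  have h3 : ∀ x : Fi24, a * (a * (a * x * a⁻¹) * a⁻¹) * a⁻¹ = x := by
    intro x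
    calc a * (a * (a * x * a⁻¹) * a⁻¹) * a⁻¹ = a ^ 3 * x * (a ^ 3)⁻¹ := by simp only [pow_succ, pow_zero]; group
      _ = x := by rw [ha]; group
  have hinj : ∀ x y : Fi24, a * x * a⁻¹ = a * y * a⁻¹ → x = y := fun x y h =>
    mul_left_cancel (mul_right_cancel h)
  rcases hf _ hD with h1 | ⟨c, d, h⟩
  · exact ⟨_, h0.ha, h1⟩
  set e := D 0 0 with he
  have hc := h.conj hTr (g := a) haz
  -- the image of a mate
  have h4 : a * (a * e * a⁻¹) * a⁻¹ ≠ e := by
    intro h5
    have h6 := h3 e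
    rw [h5] at h6
    exact h.nab h6.symm
  rcases h.sw12.unique hTr hc with h5 | h5 | h5
  · exact absurd h5 h4
  · -- `c` is the third: `d` is fixed
    refine ⟨d, h.hd, ?_⟩
    rcases h.sw12.unique hTr hc.sw24 with h6 | h6 | h6
    · exfalso
      have h7 : a * c * a⁻¹ = e := by rw [← h5, h3]
      exact h.ncd (hinj _ _ (h7.trans h6.symm))
    · exfalso
      exact h.nbd (hinj _ _ (h5.trans h6.symm))
    · exact h6
  · refine ⟨c, h.hc, ?_⟩
    rcases h.sw12.unique hTr hc.sw23 with h6 | h6 | h6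
    · exfalso
      have h7 : a * d * a⁻¹ = e := by rw [← h5, h3]
      exact h.ncd (hinj _ _ (h6.trans h7.symm))
    · exact h6
    · exfalso
      exact h.nbc (hinj _ _ (h5.trans h6.symm))

/-- `M = C(z)` in `Fi24'` -/
def M : Subgroup Spor.Fi24' := centralizer ({Abs.zK frame} : Set (commutator Fi24))

theorem mem_M {x : Spor.Fi24'} : x ∈ M ↔ (x : Fi24) * z = z * (x : Fi24) := by
  unfold M
  rw [mem_centralizer_singleton_iff]
  exact ⟨fun h => congrArg Subtype.val h, fun h => Subtype.ext h⟩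

/-- elements of order 3 of `M` lie in `E` -/
theorem mem_E {x : Spor.Fi24'} (hx : x ^ 3 = 1) (hxM : x ∈ M) : (x : Fi24) ∈ E := by
  have hfin := finite_Fi24
  have h1 := Abs.relIndex_E frame Order.card SheetMFi.card_E
  have h2 : ((E.subgroupOf (commutator Fi24)).subgroupOf M).index = 1 ∨
      ((E.subgroupOf (commutator Fi24)).subgroupOf M).index = 2 := h1
  set N := (E.subgroupOf (commutator Fi24)).subgroupOf M with hN
  rcases h2 with h2 | h2
  · rw [index_eq_one] at h2
    have h3 : (⟨x, hxM⟩ : M) ∈ N := by rw [h2]; exact mem_top _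
    exact h3
  · have hn := Subgroup.normal_of_index_eq_two h2
    have h3 : (⟨x, hxM⟩ : M) ^ 2 ∈ N := by
      have h4 := Subgroup.mul_self_mem_of_index_two h2 (⟨x, hxM⟩ : M)
      rwa [pow_two]
    have h5 : (⟨x, hxM⟩ : M) ^ 3 = 1 := Subtype.ext hx
    have h6 : (⟨x, hxM⟩ : M) = ((⟨x, hxM⟩ : M) ^ 2) ^ 2 := by
      rw [← pow_mul, show 2 * 2 = 3 + 1 from rfl, pow_succ, h5, one_mul]
    have h7 : (⟨x, hxM⟩ : M) ∈ N := by
      rw [h6]
      exact N.pow_mem h3 2
    exact h7

/-- the radical of `M` inside `E` -/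
def Q [Finite Spor.Fi24'] : Subgroup Fi24 := (radIn M).map (commutator Fi24).subtype ⊓ E

theorem Q_conj [Finite Spor.Fi24'] {e n : Fi24} (he : e ∈ E) (hn : n ∈ Q) : e * n * e⁻¹ ∈ Q := by
  obtain ⟨⟨r, hr, rfl⟩, h2⟩ := hn
  have hez := frame.Ez e he
  refine ⟨⟨(⟨e, frame.EK he⟩ : Spor.Fi24') * r * (⟨e, frame.EK he⟩ : Spor.Fi24')⁻¹, ?_, rfl⟩,
    E.mul_mem (E.mul_mem he h2) (E.inv_mem he)⟩
  exact radIn_conj_mem (mem_M.2 hez) hr

theorem R_le_Q [Finite Spor.Fi24'] : R ≤ Q := by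
  have hle : R.subgroupOf (commutator Fi24) ≤ radIn M := by
    refine le_radIn ?_ ?_ ?_
    · intro r hr
      exact mem_M.2 (frame.Ez _ (frame.RE hr))
    · intro g hg n hn
      exact frame.norm _ (mem_M.1 hg) _ hn
    · have h1 : Nat.card (R.subgroupOf (commutator Fi24)) = 8192 := Abs.card_RK frame
      have : Fact (Nat.Prime 2) := ⟨Nat.prime_two⟩
      have h2 : IsPGroup 2 ↥(R.subgroupOf (commutator Fi24)) := IsPGroup.of_card (n := 13) (by rw [h1]; norm_num)
      have : Group.IsNilpotent ↥(R.subgroupOf (commutator Fi24)) := h2.isNilpotent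
      infer_instance
  intro r hr
  exact ⟨⟨⟨r, frame.EK (frame.RE hr)⟩, hle hr, rfl⟩, frame.RE hr⟩

theorem Q_solvable [Finite Spor.Fi24'] : Group.IsSolvable Q :=
  isSolvable_of_le inf_le_left (isSolvable_map (radIn_solvable M) _)

theorem Q_ne [Finite Spor.Fi24'] : Q ≠ E := by
  intro h
  have hs : Group.IsSolvable E := h ▸ Q_solvable
  have h1 : E = ⊥ := by
    have h2 := frame.perf
    by_contra hne
    have hnt : Nontrivial E := (Subgroup.nontrivial_iff_ne_bot E).2 hne
    have h3 := Group.IsSolvable.commutator_lt_top_of_nontrivial E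
    apply h3.ne
    rw [eq_top_iff]
    intro x _
    have h4 : (x : Fi24) ∈ ⁅E, E⁆ := by rw [h2]; exact x.2
    have h5 : ⁅E, E⁆ = (commutator E).map E.subtype := by
      rw [commutator_def, Subgroup.map_commutator, ← MonoidHom.range_eq_map, Subgroup.range_subtype]
    rw [h5] at h4
    obtain ⟨y, hy, hyx⟩ := h4
    have : y = x := Subtype.ext hyx
    rwa [← this]
  have h2 := SheetMFi.card_E
  rw [h1, card_bot] at h2
  norm_num at h2

/-- a radical element of order 3 commuting with `z` fixes the tetrads -/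
theorem fixes_of_rc [Finite Spor.Fi24'] (hMt : M ≠ ⊤) {a : Spor.Fi24'} (ha : a ^ 3 = 1) (haM : a ∈ M)
    (hR : RC (MulAut.conj a)) : Fixes (a : Fi24) := by
  rcases Cfsg.Agent.PreUniq.FiTF.Z.dich Q inf_le_right R_le_Q (fun e he n hn => Q_conj he hn) with h | h
  · refine h _ ⟨⟨a, ?_, rfl⟩, mem_E ha haM⟩
    exact mem_radIn_coe.2 (mem_rad hR hMt haM)
  · exact absurd h Q_ne

/-- **a radical element of order 3 commutes with a transposition** -/
theorem exists_comm [Finite Spor.Fi24'] (hMt : M ≠ ⊤) {x : Spor.Fi24'} (ho : orderOf x = 3)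
    (hR : RC (MulAut.conj x)) : ∃ d ∈ L, d * (x : Fi24) = (x : Fi24) * d := by
  by_contra hcon
  push Not at hcon
  have hx3 : x ^ 3 = 1 := by rw [← ho, pow_orderOf_eq_one]
  have hx3' : (x : Fi24) ^ 3 = 1 := congrArg Subtype.val hx3
  obtain ⟨s, hs, hxs, hs2, hs1⟩ := Cfsg.Agent.H844.NB.exists_inv_of_not hx3' hcon
  obtain ⟨g, hg, hgs⟩ := Cfsg.Agent.LThreeFi24.EmptyTwo.invol_aux hx3' hcon hs hs2 hs1 hxs.symm
  set g' : Spor.Fi24' := ⟨g, hg⟩ with hg'
  have ha3 : (g' * x * g'⁻¹) ^ 3 = 1 := by rw [conj_pow, hx3]; group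
  have haM : g' * x * g'⁻¹ ∈ M := by
    rw [mem_M]
    show g * (x : Fi24) * g⁻¹ * z = z * (g * (x : Fi24) * g⁻¹)
    rw [← hgs]
    calc g * (x : Fi24) * g⁻¹ * (g * s * g⁻¹) = g * ((x : Fi24) * s) * g⁻¹ := by group
      _ = g * (s * (x : Fi24)) * g⁻¹ := by rw [hxs]
      _ = _ := by group
  have hF := fixes_of_rc hMt ha3 haM (rc_conj hR g')
  obtain ⟨e, he, h1⟩ := fix_of_cube (congrArg Subtype.val ha3) (mem_M.1 haM) hF
  have h1' : g * (x : Fi24) * g⁻¹ * e * (g * (x : Fi24) * g⁻¹)⁻¹ = e := h1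
  refine hcon (g⁻¹ * e * g⁻¹⁻¹) (Cfsg.Agent.R08.FiTwentyFour.conj he g⁻¹) ?_
  have h2 : g * (x : Fi24) * g⁻¹ * e = e * (g * (x : Fi24) * g⁻¹) := mul_inv_eq_iff_eq_mul.1 h1'
  calc g⁻¹ * e * g⁻¹⁻¹ * (x : Fi24) = g⁻¹ * (e * (g * (x : Fi24) * g⁻¹)) * g := by group
    _ = g⁻¹ * (g * (x : Fi24) * g⁻¹ * e) * g := by rw [h2]
    _ = _ := by group

/-- **no radical elements of order 3** -/
theorem false_of_rc [Finite Spor.Fi24'] [IsSimpleGroup Spor.Fi24'] {x : Spor.Fi24'} (ho : orderOf x = 3)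
    (hR : RC (MulAut.conj x)) : False := by
  have hcard : Nat.card Spor.Fi24' = 1255205709190661721292800 := Cfsg.Agent.R08.FiTwentyFour.isFi24'.2
  have hMt : M ≠ ⊤ := by
    intro h
    have h1 : Nat.card M = 160526499840 := Cfsg.Agent.PreUniq.FiTF.Z.card_CK_eq
    rw [h, card_top, hcard] at h1
    norm_num at h1
  obtain ⟨d, hd, hdx⟩ := exists_comm hMt ho hR
  obtain ⟨c, rfl⟩ := isConj_iff.1 (show IsConj (Cfsg.Agent.Fischer.Fi24Class.gen .l) d from hd)
  -- the centralizer of `d` in `Fi24'` is isomorphic to `Fi23`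
  have hn : (commutator Fi24).Normal := inferInstance
  let φ : Spor.Fi23 →* Spor.Fi24' := (((MulAut.conj c).toMonoidHom.comp
    Cfsg.Agent.R08.FiTwentyFour.facts.phi)).codRestrict (commutator Fi24) fun k =>
      hn.conj_mem _ (Cfsg.Agent.R08.FiTwentyFour.mem_commutator_iff.2
        (Cfsg.Agent.R08.FiTwentyFour.facts.sgn_phi k)) c
  have hφ : Function.Injective φ := by
    intro a b hab
    have h1 : c * Cfsg.Agent.R08.FiTwentyFour.facts.phi a * c⁻¹ = c * Cfsg.Agent.R08.FiTwentyFour.facts.phi b * c⁻¹ :=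
      congrArg Subtype.val hab
    exact Cfsg.Agent.R08.FiTwentyFour.facts.phi_injective (mul_left_cancel (mul_right_cancel h1))
  have h23 := Cfsg.Agent.S1697.result
  have hs : IsSimpleGroup Spor.Fi23 := h23.1
  have h23c : Nat.card Spor.Fi23 = 4089470473293004800 := h23.2
  have hfin : Finite Spor.Fi23 := Nat.finite_of_card_ne_zero (by rw [h23c]; norm_num)
  let e : Spor.Fi23 ≃* φ.range := MonoidHom.ofInjective hφ
  have hns : ¬ Group.IsSolvable Spor.Fi23 := not_solvable Nat.prime_two Nat.prime_three (by norm_num)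
    (by rw [h23c]; exact ⟨2044735236646502400, by norm_num⟩) (by rw [h23c]; exact ⟨1363156824431001600, by norm_num⟩)
  refine false_of_mem (p := 3) ho hR (M := φ.range) ?_ ?_
    (RadFree.congr Nat.prime_three e.symm (RadFree.of_simple (by norm_num) hns))
  · intro h
    have h1 : Nat.card φ.range = Nat.card Spor.Fi23 := (Nat.card_congr e.toEquiv).symm
    rw [h, card_top, hcard, h23c] at h1
    norm_num at h1
  · -- `x` lies in the range
    have h1 : (c⁻¹ * (x : Fi24) * c) * Cfsg.Agent.Fischer.Fi24Class.gen .l =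
        Cfsg.Agent.Fischer.Fi24Class.gen .l * (c⁻¹ * (x : Fi24) * c) := by
      calc (c⁻¹ * (x : Fi24) * c) * Cfsg.Agent.Fischer.Fi24Class.gen .l =
          c⁻¹ * ((x : Fi24) * (c * Cfsg.Agent.Fischer.Fi24Class.gen .l * c⁻¹)) * c := by group
        _ = c⁻¹ * ((c * Cfsg.Agent.Fischer.Fi24Class.gen .l * c⁻¹) * (x : Fi24)) * c := by rw [hdx]
        _ = _ := by group
    have h2 : c⁻¹ * (x : Fi24) * c ∈ commutator Fi24 := by
      have := hn.conj_mem (x : Fi24) x.2 c⁻¹
      rwa [inv_inv] at this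
    obtain ⟨k, hk⟩ := (Cfsg.Agent.R08.FiTwentyFour.facts.mem_range_iff _).2
      ⟨h1, Cfsg.Agent.R08.FiTwentyFour.mem_commutator_iff.1 h2⟩
    refine ⟨k, Subtype.ext ?_⟩
    show c * Cfsg.Agent.R08.FiTwentyFour.facts.phi k * c⁻¹ = (x : Fi24)
    rw [hk]
    group

end Cfsg.Agent.H491.Rad3.FiTF

namespace Cfsg.Agent.H491.Rad3

open Subgroup Cfsg Cfsg.Agent.H959.Rad3 Cfsg.Agent.H459.Rad Cfsg.Agent.H839.Rad

theorem irow_fi24p {K : Type*} [Group K] [Finite K] [IsSimpleGroup K] (h : Cfsg.Spor.IsoFi24' K) :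
    Cfsg.Agent.H959.Rad3.IRow K := by
  obtain ⟨e⟩ := h
  have hfin : Finite Spor.Fi24' := Finite.of_equiv K e.toEquiv
  refine IRow.congr e ?_
  have hs : IsSimpleGroup Spor.Fi24' := Cfsg.Agent.R08.FiTwentyFour.isFi24'.1
  have hcard : Nat.card Spor.Fi24' = 1255205709190661721292800 := Cfsg.Agent.R08.FiTwentyFour.isFi24'.2
  have hns : ¬ Group.IsSolvable Spor.Fi24' := not_solvable Nat.prime_two Nat.prime_three (by norm_num)
    (by rw [hcard]; exact ⟨627602854595330860646400, by norm_num⟩)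
    (by rw [hcard]; exact ⟨418401903063553907097600, by norm_num⟩)
  have hZ : center Spor.Fi24' = ⊥ := by
    rcases (inferInstance : (center Spor.Fi24').Normal).eq_bot_or_eq_top with h | h
    · exact h
    · exact absurd (Group.isSolvable_of_comm fun a b => (mem_center_iff.1 (by rw [h]; exact mem_top b)) a) hns
  exact IRowInn.irow hZ
    (fun x hx => Cfsg.Agent.H256.OddInner.fi24' (K := Spor.Fi24') ⟨MulEquiv.refl _⟩ x (by rw [hx]; decide))
    (fun a ha hR _ => FiTF.false_of_rc ha hR)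

end Cfsg.Agent.H491.Rad3
end
end
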